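import Groth.Prelude.Def_Mor2
import Groth.Prelude.Def_CInt
import Groth.Agent.Lib.RegSeqLoc.Scheme
import Groth.Agent.Lib.RegSeqLoc.Immersion

/-!
# Regularity of a closed immersion near a point, as a property of the stalk map
-/

universe u

open CategoryTheory AlgebraicGeometry RingTheory.Sequence

namespace GrothLib.CInt17

theorem near_iff {X Z : Scheme.{u}} [IsLocallyNoetherian X] (i : Z ⟶ X) [IsClosedImmersion i] (z : Z) :
    (∃ V : X.Opens, i z ∈ V ∧ Mor2.IsRegularClosedImmersion (i ∣_ V)) ↔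
      CInt.IsRegularIdeal (RingHom.ker (i.stalkMap z).hom) := by
  rw [GrothLib.RegSeqLoc.exists_open_iff, GrothLib.RegSeqLoc.exists_affine_iff]
  exact exists_congr fun rs => and_congr_right fun _ => eq_comm

theorem isRegularIdeal_map_ringEquiv {R S : Type u} [CommRing R] [CommRing S] (e : R ≃+* S) {I : Ideal R}
    (h : CInt.IsRegularIdeal I) : CInt.IsRegularIdeal (I.map (e : R →+* S)) := by
  obtain ⟨rs, hrs, rfl⟩ := h
  letI : RingHomInvPair (e : R →+* S) (e.symm : S →+* R) :=
    ⟨RingHom.ext fun x => e.symm_apply_apply x, RingHom.ext fun x => e.apply_symm_apply x⟩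
  letI : RingHomInvPair (e.symm : S →+* R) (e : R →+* S) :=
    ⟨RingHom.ext fun x => e.apply_symm_apply x, RingHom.ext fun x => e.symm_apply_apply x⟩
  let l : R ≃ₛₗ[(e : R →+* S)] S :=
    { e.toAddEquiv with map_smul' := fun r x => map_mul e r x }
  exact ⟨rs.map (e : R →+* S), (l.isRegular_congr' rs).1 hrs, (Ideal.map_ofList _ rs).symm⟩

/-- the two kinds of kernels for a composite of surjections -/
theorem isRegularIdeal_ker_comp_iff {R S T : Type u} [CommRing R] [CommRing S] [CommRing T]
    (ψ : R →+* S) (hψ : Function.Surjective ψ) (φ : S →+* T) :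
    CInt.IsRegularIdeal ((RingHom.ker (φ.comp ψ)).map (Ideal.Quotient.mk (RingHom.ker ψ))) ↔
      CInt.IsRegularIdeal (RingHom.ker φ) := by
  let e := RingHom.quotientKerEquivOfSurjective hψ
  have he : ((RingHom.ker (φ.comp ψ)).map (Ideal.Quotient.mk (RingHom.ker ψ))).map (e : _ →+* S) =
      RingHom.ker φ := by
    rw [Ideal.map_map, show ((e : _ →+* S)).comp (Ideal.Quotient.mk (RingHom.ker ψ)) = ψ from
      RingHom.ext fun r => rfl, ← RingHom.comap_ker, Ideal.map_comap_of_surjective ψ hψ]
  constructor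
  · intro h
    rw [← he]
    exact isRegularIdeal_map_ringEquiv e h
  · intro h
    have h2 := isRegularIdeal_map_ringEquiv e.symm h
    rw [← he, Ideal.map_map, show ((e.symm : S →+* _)).comp (e : _ →+* S) = RingHom.id _ from
      RingHom.ext fun r => e.symm_apply_apply r, Ideal.map_id] at h2
    exact h2

theorem surjective_stalkMap {X Z : Scheme.{u}} (i : Z ⟶ X) [IsClosedImmersion i] (z : Z) :
    Function.Surjective (i.stalkMap z).hom := i.stalkMap_surjective z

theorem ker_stalkMap_comp {X Y Z : Scheme.{u}} (f : Y ⟶ X) (g : Z ⟶ Y) (z : Z) :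
    RingHom.ker ((g ≫ f).stalkMap z).hom = RingHom.ker ((g.stalkMap z).hom.comp (f.stalkMap (g z)).hom) := by
  rw [Scheme.Hom.stalkMap_comp]
  rfl

end GrothLib.CInt17
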